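import Mathlib
import Groth.Prelude.Def_W4c1famcyclesFFR

/-! Determinant of an endomorphism of a module with a finite free resolution. -/

set_option autoImplicit false
set_option backward.isDefEq.respectTransparency false
universe u

namespace Groth.Agent.FFRDetLib

open IsLocalRing TensorProduct Polynomial

/-- The characteristic polynomial is multiplicative in short exact sequences of free modules. -/
theorem charpoly_exact {R : Type*} [CommRing R] [Nontrivial R] {K F M : Type*} [AddCommGroup K] [Module R K]
    [AddCommGroup F] [Module R F] [AddCommGroup M] [Module R M] [Module.Free R K] [Module.Finite R K]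
    [Module.Free R F] [Module.Finite R F] [Module.Free R M] [Module.Finite R M]
    (i : K →ₗ[R] F) (g : F →ₗ[R] M) (hi : Function.Injective i) (hg : Function.Surjective g)
    (hex : Function.Exact i g) (φK : K →ₗ[R] K) (φF : F →ₗ[R] F) (φM : M →ₗ[R] M)
    (hK : φF ∘ₗ i = i ∘ₗ φK) (hM : g ∘ₗ φF = φM ∘ₗ g) :
    φF.charpoly = φK.charpoly * φM.charpoly := by
  classical
  obtain ⟨s, hs⟩ := Module.projective_lifting_property g LinearMap.id hg
  obtain ⟨⟨e, he1, he2⟩⟩ : Nonempty { e : F ≃ₗ[R] K × M // i = e.symm ∘ₗ LinearMap.inl R K M ∧
      g = LinearMap.snd R K M ∘ₗ e } := ⟨hex.splitSurjectiveEquiv hi ⟨s, hs⟩⟩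
  rw [← LinearEquiv.charpoly_conj e φF]
  set ψ := e.conj φF with hψ
  let bK := Module.Free.chooseBasis R K
  let bM := Module.Free.chooseBasis R M
  have h1 : ∀ k : K, ψ (k, 0) = (φK k, 0) := fun k => by
    have a : e.symm (k, 0) = i k := by rw [he1]; rfl
    have b : e (i (φK k)) = (φK k, 0) := by rw [he1]; simp
    rw [hψ, LinearEquiv.conj_apply_apply, a, ← b]
    exact congrArg e (LinearMap.congr_fun hK k)
  have h2 : ∀ x, (ψ x).2 = φM x.2 := fun x => by
    have a : ∀ y, (e y).2 = g y := fun y => by rw [he2]; rfl
    rw [hψ, LinearEquiv.conj_apply_apply, a]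
    rw [show g (φF (e.symm x)) = φM (g (e.symm x)) from LinearMap.congr_fun hM _, ← a, LinearEquiv.apply_symm_apply]
  have hmat : LinearMap.toMatrix (bK.prod bM) (bK.prod bM) ψ = Matrix.fromBlocks
      (LinearMap.toMatrix bK bK φK) (Matrix.of fun a b => bK.repr (ψ (0, bM b)).1 a) 0
      (LinearMap.toMatrix bM bM φM) := by
    ext a b
    rcases a with a | a <;> rcases b with b | b <;>
      simp [LinearMap.toMatrix_apply, h1, h2]
  rw [← LinearMap.charpoly_toMatrix ψ (bK.prod bM), hmat, Matrix.charpoly_fromBlocks_zero₂₁,
    LinearMap.charpoly_toMatrix, LinearMap.charpoly_toMatrix]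

/-- Over a local ring whose maximal ideal kills a nonzero element, a finite module with a finite free
presentation with free kernel is free. -/
theorem free_of_depth_zero {R : Type*} [CommRing R] [IsLocalRing R] {K F M : Type*} [AddCommGroup K] [Module R K]
    [AddCommGroup F] [Module R F] [AddCommGroup M] [Module R M] [Module.Free R K] [Module.Finite R K]
    [Module.Free R F] [Module.Finite R F]
    (i : K →ₗ[R] F) (g : F →ₗ[R] M) (hi : Function.Injective i) (hg : Function.Surjective g)
    (hex : Function.Exact i g) (z : R) (hz : z ≠ 0) (hzm : ∀ r ∈ maximalIdeal R, r * z = 0) :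
    Module.Free R M := by
  classical
  refine Module.free_of_lTensor_residueField_injective i g hg hex ?_
  let bK := Module.Free.chooseBasis R K
  let bF := Module.Free.chooseBasis R F
  refine (injective_iff_map_eq_zero _).mpr fun x hx => ?_
  obtain ⟨v, rfl⟩ := TensorProduct.mk_surjective R K (ResidueField R) Ideal.Quotient.mk_surjective x
  have hiv : ∀ j, bF.repr (i v) j ∈ maximalIdeal R := fun j => by
    rw [← IsLocalRing.residue_eq_zero_iff]
    have h := congrArg (fun t => (bF.baseChange (ResidueField R)).repr t j) hx
    simpa [Module.Basis.baseChange_repr_tmul, Algebra.smul_def] using h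
  have hzv : z • v = 0 := hi (by
    rw [map_smul, map_zero]
    exact bF.ext_elem fun j => by simpa [mul_comm z] using hzm _ (hiv j))
  have hv : ∀ j, bK.repr v j ∈ maximalIdeal R := fun j => by
    rw [IsLocalRing.mem_maximalIdeal, mem_nonunits_iff]
    intro hu
    refine hz (hu.mul_left_eq_zero.mp ?_)
    simpa using congrArg (fun t => bK.repr t j) hzv
  refine (bK.baseChange (ResidueField R)).ext_elem fun j => ?_
  simp [Module.Basis.baseChange_repr_tmul, Algebra.smul_def, IsLocalRing.residue_eq_zero_iff, hv j]

variable {A : Type u} [CommRing A]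

theorem finite_of_ffr : ∀ (n : ℕ) (M : Type u) [AddCommGroup M] [Module A M],
    FamCyc.HasFiniteFreeResolutionLE A n M → Module.Finite A M
  | 0, _, _, _, h => h.2
  | _ + 1, _, _, _, ⟨_, f, hf, _⟩ => Module.Finite.of_surjective f hf

theorem charpoly_localized (S : Submonoid A) [Nontrivial A] [Nontrivial (Localization S)] {N : Type u}
    [AddCommGroup N] [Module A N] [Module.Free A N] [Module.Finite A N]
    [Module.Free (Localization S) (LocalizedModule S N)] (φ : N →ₗ[A] N) :
    (LocalizedModule.map S φ).charpoly = φ.charpoly.map (algebraMap A (Localization S)) := by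
  classical
  let b := Module.Free.chooseBasis A N
  let b' := b.ofIsLocalizedModule (Localization S) S (LocalizedModule.mkLinearMap S N)
  have hm : LinearMap.toMatrix b' b' (LocalizedModule.map S φ) =
      (LinearMap.toMatrix b b φ).map (algebraMap A (Localization S)) := by
    ext i j
    simp only [b', LinearMap.toMatrix_apply, Matrix.map_apply, Module.Basis.ofIsLocalizedModule_apply,
      LocalizedModule.mkLinearMap_apply, LocalizedModule.map_mk]
    exact Module.Basis.ofIsLocalizedModule_repr_apply (Localization S) S (LocalizedModule.mkLinearMap S N) b (φ (b j)) i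
  rw [← LinearMap.charpoly_toMatrix _ b', hm, Matrix.charpoly_map, LinearMap.charpoly_toMatrix]

theorem exists_poly [IsNoetherianRing A] [Nontrivial A] : ∀ (n : ℕ) (M : Type u) [AddCommGroup M] [Module A M],
    FamCyc.HasFiniteFreeResolutionLE A n M → ∀ [Module.Finite A M] (φ : M →ₗ[A] M),
      (∀ (p : Ideal A) [p.IsPrime], IsAssociatedPrime p A →
        Module.Free (Localization.AtPrime p) (LocalizedModule p.primeCompl M)) ∧
      ∃ Q : A[X], Q.Monic ∧ ∀ (p : Ideal A) [p.IsPrime]
        [Module.Free (Localization.AtPrime p) (LocalizedModule p.primeCompl M)],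
        (LocalizedModule.map p.primeCompl φ).charpoly = Q.map (algebraMap A (Localization.AtPrime p)) := by
  intro n
  induction n with
  | zero =>
    intro M _ _ h _ φ
    haveI := h.1
    refine ⟨fun p _ _ => Module.free_of_isLocalizedModule p.primeCompl (LocalizedModule.mkLinearMap p.primeCompl M),
      φ.charpoly, φ.charpoly_monic, fun p _ _ => charpoly_localized p.primeCompl φ⟩
  | succ n ih =>
    intro M _ _ h _ φ
    obtain ⟨k, f, hf, hk⟩ := h
    haveI : Module.Finite A (LinearMap.ker f) := finite_of_ffr n _ hk
    obtain ⟨φF, hφF⟩ := Module.projective_lifting_property f (φ ∘ₗ f) hf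
    have hres : ∀ x ∈ LinearMap.ker f, φF x ∈ LinearMap.ker f := fun x hx => by
      rw [LinearMap.mem_ker] at hx ⊢
      rw [show f (φF x) = φ (f x) from LinearMap.congr_fun hφF x, hx, map_zero]
    obtain ⟨hKfree, QK, hQK, hQKp⟩ := ih (LinearMap.ker f) hk (φF.restrict hres)
    have hex : Function.Exact (LinearMap.ker f).subtype f := LinearMap.exact_subtype_ker_map f
    have hMfree : ∀ (p : Ideal A) [p.IsPrime], IsAssociatedPrime p A →
        Module.Free (Localization.AtPrime p) (LocalizedModule p.primeCompl M) := by
      intro p _ hp
      haveI := hKfree p hp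
      haveI : Module.Free (Localization.AtPrime p) (LocalizedModule p.primeCompl (Fin k → A)) :=
        Module.free_of_isLocalizedModule p.primeCompl (LocalizedModule.mkLinearMap p.primeCompl _)
      obtain ⟨x, hx⟩ := (isAssociatedPrime_iff.mp hp).2
      let i := LocalizedModule.map p.primeCompl (LinearMap.ker f).subtype
      let g := LocalizedModule.map p.primeCompl f
      have hex' : Function.Exact i g := LocalizedModule.map_exact p.primeCompl _ _ hex
      refine @free_of_depth_zero (Localization.AtPrime p) _ _ (LocalizedModule p.primeCompl (LinearMap.ker f)) (LocalizedModule p.primeCompl (Fin k → A)) (LocalizedModule p.primeCompl M) _ _ _ _ _ _ _ _ _ _ i g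
        (LocalizedModule.map_injective p.primeCompl _ Subtype.val_injective)
        (LocalizedModule.map_surjective p.primeCompl _ hf)
        hex'
        (algebraMap A (Localization.AtPrime p) x) ?_ ?_
      · intro h0
        obtain ⟨⟨s, hs⟩, hsx⟩ := (IsLocalization.map_eq_zero_iff p.primeCompl _ x).mp h0
        apply hs
        show s ∈ p
        rw [hx, Submodule.mem_colon_singleton]
        simpa using hsx
      · intro r hr
        rw [← Localization.AtPrime.map_eq_maximalIdeal] at hr
        have hsub : p.map (algebraMap A (Localization.AtPrime p)) ≤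
            LinearMap.ker (LinearMap.mulRight (Localization.AtPrime p) (algebraMap A (Localization.AtPrime p) x)) := by
          refine Ideal.map_le_iff_le_comap.mpr fun a ha => ?_
          rw [hx, Submodule.mem_colon_singleton] at ha
          show algebraMap A (Localization.AtPrime p) a * algebraMap A (Localization.AtPrime p) x = 0
          rw [← map_mul, show a * x = 0 from by simpa using ha, map_zero]
        exact hsub hr
    refine ⟨hMfree, φF.charpoly /ₘ QK, ?_⟩
    have key : ∀ (p : Ideal A) [p.IsPrime]
        [Module.Free (Localization.AtPrime p) (LocalizedModule p.primeCompl M)],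
        φF.charpoly.map (algebraMap A (Localization.AtPrime p)) =
          QK.map (algebraMap A (Localization.AtPrime p)) * (LocalizedModule.map p.primeCompl φ).charpoly := by
      intro p _ _
      haveI : Module.Free (Localization.AtPrime p) (LocalizedModule p.primeCompl (Fin k → A)) :=
        Module.free_of_isLocalizedModule p.primeCompl (LocalizedModule.mkLinearMap p.primeCompl _)
      let i := LocalizedModule.map p.primeCompl (LinearMap.ker f).subtype
      let g := LocalizedModule.map p.primeCompl f
      have hi : Function.Injective i := LocalizedModule.map_injective p.primeCompl _ Subtype.val_injective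
      have hg : Function.Surjective g := LocalizedModule.map_surjective p.primeCompl _ hf
      have hex' : Function.Exact i g := LocalizedModule.map_exact p.primeCompl _ _ hex
      haveI : Module.Free (Localization.AtPrime p) (LocalizedModule p.primeCompl (LinearMap.ker f)) := by
        obtain ⟨s, hs⟩ := Module.projective_lifting_property g LinearMap.id hg
        let e := (@Function.Exact.splitSurjectiveEquiv (Localization.AtPrime p)
          (LocalizedModule p.primeCompl (LinearMap.ker f)) (LocalizedModule p.primeCompl (Fin k → A))
          (LocalizedModule p.primeCompl M) _ _ _ _ _ _ _ i g hex' hi ⟨s, hs⟩).1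
        haveI : Module.Projective (Localization.AtPrime p) (LocalizedModule p.primeCompl (LinearMap.ker f)) :=
          Module.Projective.of_split (LinearMap.inl _ _ _ |> e.symm.toLinearMap.comp)
            (LinearMap.fst _ _ _ |>.comp e.toLinearMap) (by ext x; simp)
        exact Module.free_of_flat_of_isLocalRing (R := Localization.AtPrime p) (P := LocalizedModule p.primeCompl (LinearMap.ker f))
      rw [← hQKp p, ← charpoly_localized p.primeCompl φF]
      refine charpoly_exact i g hi hg hex' _ _ _ ?_ ?_
      · refine LinearMap.ext fun x => ?_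
        induction x using LocalizedModule.induction_on with
        | _ m s => simp [i, LocalizedModule.map_mk]
      · refine LinearMap.ext fun x => ?_
        induction x using LocalizedModule.induction_on with
        | _ m s =>
          simp only [g, LinearMap.comp_apply, LocalizedModule.map_mk]
          rw [show f (φF m) = φ (f m) from LinearMap.congr_fun hφF m]
    obtain ⟨p₀, hp₀⟩ := associatedPrimes.nonempty A A
    haveI := hp₀.isPrime
    haveI := hMfree p₀ hp₀
    constructor
    · have hd : QK.natDegree ≤ φF.charpoly.natDegree := by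
        have h1 := congrArg natDegree (key p₀)
        rw [(hQK.map _).natDegree_mul (LinearMap.charpoly_monic _), φF.charpoly_monic.natDegree_map,
          hQK.natDegree_map] at h1
        omega
      rw [Monic, leadingCoeff_divByMonic_of_monic hQK (by rwa [degree_eq_natDegree hQK.ne_zero, degree_eq_natDegree φF.charpoly_monic.ne_zero, Nat.cast_le])]
      exact φF.charpoly_monic
    · intro p _ _
      rw [map_divByMonic _ hQK, key p, mul_divByMonic_cancel_left _ (hQK.map _)]

theorem existsUnique_det [IsNoetherianRing A] (M : Type u) [AddCommGroup M] [Module A M] (n : ℕ)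
    (hM : FamCyc.HasFiniteFreeResolutionLE A n M) (φ : M →ₗ[A] M) :
    ∃! a : A, ∀ (p : Ideal A) [p.IsPrime],
      Module.Free (Localization.AtPrime p) (LocalizedModule p.primeCompl M) →
        algebraMap A (Localization.AtPrime p) a = LinearMap.det (LocalizedModule.map p.primeCompl φ) := by
  classical
  rcases subsingleton_or_nontrivial A with hA | hA
  · exact ⟨0, fun p hp => (hp.ne_top (Subsingleton.elim _ _)).elim, fun a _ => Subsingleton.elim _ _⟩
  haveI : Module.Finite A M := finite_of_ffr n M hM
  obtain ⟨hfree, Q, hQ, hQp⟩ := exists_poly n M hM φ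
  refine ⟨(-1) ^ Q.natDegree * Q.coeff 0, fun p _ hp => ?_, fun a ha => ?_⟩
  · haveI := hp
    have h1 := hQp p
    rw [LinearMap.det_eq_sign_charpoly_coeff, ← LinearMap.charpoly_natDegree, h1, hQ.natDegree_map,
      coeff_map, map_mul, map_pow, map_neg, map_one]
  · by_contra hne
    obtain ⟨p, hp, hle⟩ := exists_le_isAssociatedPrime_of_isNoetherianRing A
      (a - (-1) ^ Q.natDegree * Q.coeff 0) (sub_ne_zero.mpr hne)
    haveI := hp.isPrime
    haveI := hfree p hp
    have h1 := ha p (hfree p hp)
    have h2 := hQp p
    rw [LinearMap.det_eq_sign_charpoly_coeff, ← LinearMap.charpoly_natDegree, h2, hQ.natDegree_map,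
      coeff_map] at h1
    have h3 : algebraMap A (Localization.AtPrime p) (a - (-1) ^ Q.natDegree * Q.coeff 0) = 0 := by
      rw [map_sub, h1, map_mul, map_pow, map_neg, map_one, sub_self]
    obtain ⟨⟨s, hs⟩, hsx⟩ := (IsLocalization.map_eq_zero_iff p.primeCompl _ _).mp h3
    refine hs (hle ?_)
    rw [Submodule.mem_colon_singleton]
    simpa using hsx

end Groth.Agent.FFRDetLib
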